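import Cfsg.Prelude.Def_LieExceptional
import Mathlib

/-!
# A `(B, N)`-pair from root subgroup data (lead)

The classical verification of the axioms of a `(B, N)`-pair for a group generated by root subgroups, in an
abstract form: no root system is mentioned, only the subgroups `T`, `U`, the fundamental root subgroups
`X i ≤ U` with complements `Uc i` (`U = X i * Uc i`, `n i` normalises `Uc i` into `U`), the rank one
condition, and the dichotomy `ν⁻¹ X i ν ≤ U` or `ν⁻¹ (n i)⁻¹ X i (n i) ν ≤ U` for `ν ∈ N`.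
-/

set_option autoImplicit false

namespace Cfsg.Agent.RootBN

open Cfsg DoubleCoset

/-- root subgroup data in a group `G` -/
structure RData (G : Type*) [Group G] (ι : Type*) where
  /-- the torus -/
  T : Subgroup G
  /-- the unipotent subgroup -/
  U : Subgroup G
  /-- the Borel subgroup -/
  B : Subgroup G
  /-- the monomial subgroup -/
  N : Subgroup G
  /-- representatives of the fundamental reflections -/
  n : ι → G
  /-- the fundamental root subgroups -/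
  X : ι → Subgroup G
  /-- their complements in `U` -/
  Uc : ι → Subgroup G
  mem_B : ∀ b, b ∈ B ↔ ∃ u ∈ U, ∃ t ∈ T, b = u * t
  T_norm : ∀ t ∈ T, ∀ u ∈ U, t * u * t⁻¹ ∈ U
  T_le_N : T ≤ N
  n_mem : ∀ i, n i ∈ N
  B_inf_N : B ⊓ N ≤ T
  N_le : N ≤ Subgroup.closure (Set.range n) ⊔ T
  N_norm : ∀ ν ∈ N, ∀ t ∈ T, ν * t * ν⁻¹ ∈ T
  n_sq : ∀ i, n i * n i ∈ T
  X_le : ∀ i, X i ≤ U
  Uc_le : ∀ i, Uc i ≤ U
  U_eq : ∀ i, ∀ u ∈ U, ∃ x ∈ X i, ∃ v ∈ Uc i, u = x * v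
  n_Uc : ∀ i, ∀ v ∈ Uc i, n i * v * (n i)⁻¹ ∈ U
  rank_one : ∀ i, ∀ x ∈ X i, n i * x * (n i)⁻¹ ∈ B ∨
    n i * x * (n i)⁻¹ ∈ doubleCoset (n i) (B : Set G) B
  dich : ∀ ν ∈ N, ∀ i, (∀ x ∈ X i, ν⁻¹ * x * ν ∈ U) ∨
    (∀ x ∈ X i, (n i * ν)⁻¹ * x * (n i * ν) ∈ U)
  gen : B ⊔ N = ⊤
  n_inj : ∀ i j, (n i)⁻¹ * n j ∈ B → n i = n j
  nondeg : ∀ i, ∃ x ∈ X i, n i * x * (n i)⁻¹ ∉ B

namespace RData

variable {G : Type*} [Group G] {ι : Type*} (R : RData G ι)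

theorem U_le_B : R.U ≤ R.B := fun u hu => (R.mem_B u).2 ⟨u, hu, 1, one_mem _, (mul_one u).symm⟩

theorem T_le_B : R.T ≤ R.B := fun t ht => (R.mem_B t).2 ⟨1, one_mem _, t, ht, (one_mul t).symm⟩

/-- `B = T U` as well -/
theorem mem_B' (b : G) (hb : b ∈ R.B) : ∃ t ∈ R.T, ∃ u ∈ R.U, b = t * u := by
  obtain ⟨u, hu, t, ht, rfl⟩ := (R.mem_B b).1 hb
  refine ⟨t, ht, t⁻¹ * u * t, ?_, by group⟩
  have := R.T_norm t⁻¹ (inv_mem ht) u hu
  rwa [inv_inv] at this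

/-- `U = Uc i * X i` as well -/
theorem U_eq' (i : ι) (u : G) (hu : u ∈ R.U) : ∃ v ∈ R.Uc i, ∃ x ∈ R.X i, u = v * x := by
  obtain ⟨x, hx, v, hv, e⟩ := R.U_eq i u⁻¹ (inv_mem hu)
  refine ⟨v⁻¹, inv_mem hv, x⁻¹, inv_mem hx, ?_⟩
  rw [← mul_inv_rev, ← e, inv_inv]

theorem n_mem_conj_T (i : ι) (t : G) (ht : t ∈ R.T) : R.n i * t * (R.n i)⁻¹ ∈ R.T :=
  R.N_norm _ (R.n_mem i) t ht

/-- the first case of the double coset condition -/
theorem case_one (i : ι) (ν : G) (h : ∀ x ∈ R.X i, ν⁻¹ * x * ν ∈ R.U) (b : G) (hb : b ∈ R.B) :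
    R.n i * b * ν ∈ doubleCoset (R.n i * ν) (R.B : Set G) R.B := by
  obtain ⟨t, ht, u, hu, rfl⟩ := R.mem_B' b hb
  obtain ⟨v, hv, x, hx, rfl⟩ := R.U_eq' i u hu
  rw [mem_doubleCoset]
  refine ⟨(R.n i * t * (R.n i)⁻¹) * (R.n i * v * (R.n i)⁻¹),
    mul_mem (R.T_le_B (R.n_mem_conj_T i t ht)) (R.U_le_B (R.n_Uc i v hv)),
    ν⁻¹ * x * ν, R.U_le_B (h x hx), ?_⟩
  group

/-- the double coset condition -/
theorem mul_mem_union (i : ι) (ν : G) (hν : ν ∈ R.N) (b : G) (hb : b ∈ R.B) :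
    R.n i * b * ν ∈ doubleCoset (R.n i * ν) (R.B : Set G) R.B ∪ doubleCoset ν (R.B : Set G) R.B := by
  rcases R.dich ν hν i with h | h
  · exact Or.inl (R.case_one i ν h b hb)
  · -- `ν' = n i * ν` is in the first case
    obtain ⟨t, ht, u, hu, rfl⟩ := R.mem_B' b hb
    obtain ⟨v, hv, x, hx, rfl⟩ := R.U_eq' i u hu
    have hb'' : (R.n i * t * (R.n i)⁻¹) * (R.n i * v * (R.n i)⁻¹) ∈ R.B :=
      mul_mem (R.T_le_B (R.n_mem_conj_T i t ht)) (R.U_le_B (R.n_Uc i v hv))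
    have e : R.n i * (t * (v * x)) * ν
        = ((R.n i * t * (R.n i)⁻¹) * (R.n i * v * (R.n i)⁻¹)) * ((R.n i * x * (R.n i)⁻¹) * (R.n i * ν)) := by
      group
    rw [e]
    rcases R.rank_one i x hx with hy | hy
    · left
      rw [mem_doubleCoset]
      exact ⟨_, mul_mem hb'' hy, 1, one_mem _, by group⟩
    · right
      rw [mem_doubleCoset] at hy
      obtain ⟨b₁, hb₁, b₂, hb₂, ey⟩ := hy
      have h1 := R.case_one i (R.n i * ν) h b₂ hb₂
      rw [mem_doubleCoset] at h1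
      obtain ⟨c₁, hc₁, c₂, hc₂, ec⟩ := h1
      rw [mem_doubleCoset]
      refine ⟨((R.n i * t * (R.n i)⁻¹) * (R.n i * v * (R.n i)⁻¹)) * b₁ * c₁ * (R.n i * R.n i),
        mul_mem (mul_mem (mul_mem hb'' hb₁) hc₁) (R.T_le_B (R.n_sq i)), c₂, hc₂, ?_⟩
      rw [ey]
      have : b₁ * R.n i * b₂ * (R.n i * ν) = b₁ * (R.n i * b₂ * (R.n i * ν)) := by group
      rw [this, ec]
      group

/-- **the `(B, N)`-pair of root subgroup data** -/
def bnPair : BNPair G where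
  B := R.B
  N := R.N
  S := Set.range R.n
  sup_eq_top := R.gen
  conj_mem := by
    intro ν hν t ht
    exact R.T_le_B (R.N_norm ν hν t (R.B_inf_N ht))
  subset := by
    rintro s ⟨i, rfl⟩
    exact R.n_mem i
  sq_mem := by
    rintro s ⟨i, rfl⟩
    exact R.T_le_B (R.n_sq i)
  inj := by
    rintro s ⟨i, rfl⟩ s' ⟨j, rfl⟩ h
    exact R.n_inj i j h
  closure_sup := by
    apply le_antisymm
    · apply sup_le
      · rw [Subgroup.closure_le]
        rintro s ⟨i, rfl⟩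
        exact R.n_mem i
      · exact inf_le_right
    · intro ν hν
      have h1 := R.N_le hν
      have h2 : Subgroup.closure (Set.range R.n) ⊔ R.T
          ≤ Subgroup.closure (Set.range R.n) ⊔ (R.B ⊓ R.N) :=
        sup_le_sup_left (le_inf R.T_le_B R.T_le_N) _
      exact h2 h1
  mul_mem_union := by
    rintro s ⟨i, rfl⟩ ν hν b hb
    exact R.mul_mem_union i ν hν b hb
  conj_ne := by
    rintro s ⟨i, rfl⟩ heq
    obtain ⟨x, hx, hxB⟩ := R.nondeg i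
    apply hxB
    have h1 : R.n i * x * R.n i ∈ (R.B : Set G) := by
      rw [← heq]
      exact ⟨x, R.U_le_B (R.X_le i hx), rfl⟩
    have h2 : (R.n i * R.n i)⁻¹ ∈ R.B := inv_mem (R.T_le_B (R.n_sq i))
    have : R.n i * x * (R.n i)⁻¹ = (R.n i * x * R.n i) * (R.n i * R.n i)⁻¹ := by group
    rw [this]
    exact mul_mem h1 h2

theorem bnPair_B : R.bnPair.B = R.B := rfl
theorem bnPair_N : R.bnPair.N = R.N := rfl
theorem bnPair_S : R.bnPair.S = Set.range R.n := rfl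

end RData

end Cfsg.Agent.RootBN
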