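import Cfsg.Agent.Lib.Lead.RootBN.OQCocycle
import Mathlib

/-!
# The orthogonal group `OQ N F` (every characteristic) is closed under the sharp Bruhat decomposition of
`GL_N(F)` (lead)

`OQ N F hN` : the elements of `UH N F id` whose columns are singular for `Σ_{i < i.rev} y_i y_{i.rev}`;
`OQ.sharp` : for `g ∈ OQ`, the components `u, ν, w` of the sharp form `g = u ν w` in `GL_N(F)` lie in `OQ`.
This replaces `Twist.sharp_fixed` for the orthogonal groups of even dimension in characteristic `2`
(where `OQ` is a proper subgroup of the fixed points `Sp` of the twist).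
-/

set_option autoImplicit false

namespace Cfsg.Agent.RootBN

open Matrix Cfsg Cfsg.Agent.Lib.Helper5.GLBN Cfsg.Agent.Lib.Helper8.SpBN
  Cfsg.Agent.Lib.Helper8.Tw
open scoped MatrixGroups

variable {N : ℕ} {F : Type*} [Field F]

theorem rev_ne_of_even (hN : Even N) (i : Fin N) : i ≠ i.rev := by
  intro h
  have := congrArg Fin.val h
  rw [Fin.val_rev] at this
  obtain ⟨m, hm⟩ := hN
  have := i.2
  omega

theorem qc_apply (M : Matrix (Fin N) (Fin N) F) (k : Fin N) :
    qc M k = ∑ i : Fin N, if i < i.rev then M i k * M i.rev k else 0 := rfl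

theorem qc_one (k : Fin N) : qc (1 : Matrix (Fin N) (Fin N) F) k = 0 := by
  rw [qc_apply]
  apply Finset.sum_eq_zero
  intro i _
  split_ifs with h
  · rw [Matrix.one_apply, Matrix.one_apply]
    by_cases h1 : i = k
    · have h3 : ¬ i.rev = k := by
        intro h2
        rw [← h1] at h2
        exact (ne_of_lt h) h2.symm
      rw [if_neg h3, mul_zero]
    · rw [if_neg h1, zero_mul]
  · rfl

/-- the orthogonal group of the quadratic form `Σ_{i < i.rev} y_i y_{i.rev}` -/
def OQ (N : ℕ) (F : Type*) [Field F] (hN : Even N) : Subgroup (GL (Fin N) F) where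
  carrier := {g | g ∈ UH N F (RingHom.id F) ∧ ∀ k, qc (g : Matrix (Fin N) (Fin N) F) k = 0}
  one_mem' := ⟨one_mem _, fun k => by rw [Units.val_one]; exact qc_one k⟩
  mul_mem' := by
    rintro a b ⟨ha, ha'⟩ ⟨hb, hb'⟩
    refine ⟨mul_mem ha hb, fun k => ?_⟩
    rw [Units.val_mul, qc_mul ha (rev_ne_of_even hN), hb' k, add_zero]
    apply Finset.sum_eq_zero
    intro l _
    rw [ha' l, mul_zero]
  inv_mem' := by
    rintro a ⟨ha, ha'⟩
    refine ⟨inv_mem ha, fun k => ?_⟩
    have h := qc_mul ha (rev_ne_of_even hN) ((a⁻¹ : GL (Fin N) F) : Matrix (Fin N) (Fin N) F) k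
    rw [← Units.val_mul, mul_inv_cancel, Units.val_one, qc_one] at h
    rw [h]
    symm
    rw [add_eq_right]
    apply Finset.sum_eq_zero
    intro l _
    rw [ha' l, mul_zero]

theorem mem_OQ {hN : Even N} {g : GL (Fin N) F} :
    g ∈ OQ N F hN ↔ g ∈ UH N F (RingHom.id F) ∧ ∀ k, qc (g : Matrix (Fin N) (Fin N) F) k = 0 :=
  Iff.rfl

/-- a monomial matrix has singular columns -/
theorem qc_mono (hN : Even N) {M : Matrix (Fin N) (Fin N) F} {π : Equiv.Perm (Fin N)}
    (hM : IsMono M π) (k : Fin N) : qc M k = 0 := by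
  rw [qc_apply]
  apply Finset.sum_eq_zero
  intro i _
  split_ifs with h
  · by_cases h1 : i = π k
    · rw [hM i.rev k, mul_zero]
      intro h2
      rw [← h1] at h2
      exact rev_ne_of_even hN i h2.symm
    · rw [hM i k h1, zero_mul]
  · rfl

/-- the first half of the columns of an upper unitriangular matrix is singular -/
theorem qc_uni_first {M : Matrix (Fin N) (Fin N) F} (hM : IsUni M) (k : Fin N) (hk : k < k.rev) :
    qc M k = 0 := by
  rw [qc_apply]
  apply Finset.sum_eq_zero
  intro i _
  split_ifs with h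
  · have h2 := (isUni_iff.1 hM).2
    by_cases h1 : k < i
    · rw [h2 i k h1, zero_mul]
    · have h3 : k < i.rev := by
        have h4 : i ≤ k := not_lt.1 h1
        have h5 : k.rev ≤ i.rev := Fin.rev_le_rev.2 h4
        exact lt_of_lt_of_le hk h5
      rw [h2 i.rev k h3, mul_zero]
  · rfl

/-- the sharp factor: the columns in the second half whose image is in the second half are singular -/
theorem qc_sharp {M : Matrix (Fin N) (Fin N) F} {π : Equiv.Perm (Fin N)}
    (hπ : revC π = π) (hM : IsPat (rM π) M) (k : Fin N) (hk : k.rev < k)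
    (hπk : (π k).rev < π k) : qc M k = 0 := by
  have hrev : ∀ i, π i.rev = (π i).rev := by
    intro i
    have := congrFun (congrArg DFunLike.coe hπ) i.rev
    rw [revC_apply, Fin.rev_rev] at this
    exact this.symm
  rw [qc_apply]
  apply Finset.sum_eq_zero
  intro i _
  split_ifs with h
  · obtain ⟨h1, h2, h3⟩ := hM
    -- `M i k ≠ 0` forces `i < k` and `π k < π i` unless `i = k`
    by_cases hik : i = k
    · exact absurd (hik ▸ h) (not_lt_of_gt hk)
    by_cases hik' : i.rev = k
    · -- the entry `M k.rev k`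
      have e : i = k.rev := by rw [← hik', Fin.rev_rev]
      have : M i k = 0 := by
        rw [e]
        apply h3 _ _ hk
        unfold rM
        rw [hrev]
        exact not_lt_of_gt hπk
      rw [this, zero_mul]
    · by_cases ha : M i k = 0
      · rw [ha, zero_mul]
      by_cases hb : M i.rev k = 0
      · rw [hb, mul_zero]
      exfalso
      have hi : i < k := by
        rcases lt_trichotomy i k with h4 | h4 | h4
        · exact h4
        · exact absurd h4 hik
        · exact absurd (h2 i k h4) ha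
      have hi' : i.rev < k := by
        rcases lt_trichotomy i.rev k with h4 | h4 | h4
        · exact h4
        · exact absurd h4 hik'
        · exact absurd (h2 i.rev k h4) hb
      have r1 : π k < π i := by
        by_contra hc
        exact ha (h3 i k hi hc)
      have r2 : π k < (π i).rev := by
        rw [← hrev]
        by_contra hc
        exact hb (h3 i.rev k hi' hc)
      -- `π k` is in the second half and below both `π i` and its mirror
      have a1 := Fin.val_rev (π k)
      have a2 := Fin.val_rev (π i)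
      have b1 : ((π k).rev : ℕ) < (π k : ℕ) := hπk
      have b2 : ((π k : Fin N) : ℕ) < (π i : ℕ) := r1
      have b3 : ((π k : Fin N) : ℕ) < ((π i).rev : ℕ) := r2
      have := (π i).2
      have := (π k).2
      omega
  · rfl

/-- the permutation of a monomial element of `UH` commutes with the reversal -/
theorem revC_of_mem_UH [Finite F] {ν : GL (Fin N) F} {π : Equiv.Perm (Fin N)}
    (hν : ν ∈ UH N F (RingHom.id F)) (hπ : IsMono (ν : Matrix (Fin N) (Fin N) F) π) :
    revC π = π := by
  have := usig_isMono (RingHom.id F) hπ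
  rw [mem_UH.1 hν] at this
  exact this.unique hπ

/-- **`OQ` is closed under the sharp Bruhat decomposition.** -/
theorem OQ.sharp [Finite F] (hN : Even N) {g : GL (Fin N) F} (hg : g ∈ OQ N F hN) :
    ∃ (u ν w : GL (Fin N) F) (π : Equiv.Perm (Fin N)),
      IsUni (u : Matrix (Fin N) (Fin N) F) ∧ IsMono (ν : Matrix (Fin N) (Fin N) F) π ∧
      IsPat (rM π) (w : Matrix (Fin N) (Fin N) F) ∧ g = u * ν * w ∧
      u ∈ OQ N F hN ∧ ν ∈ OQ N F hN ∧ w ∈ OQ N F hN := by
  have hid : ∀ x : F, (RingHom.id F) ((RingHom.id F) x) = x := fun _ => rfl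
  obtain ⟨u, ν, w, π, hu, hν, hw, e, e1, e2, e3⟩ :=
    (uTwist (N := N) (RingHom.id F) hid).sharp_fixed (mem_UH.1 hg.1)
  have hu' : u ∈ UH N F (RingHom.id F) := mem_UH.2 e1
  have hν' : ν ∈ UH N F (RingHom.id F) := mem_UH.2 e2
  have hw' : w ∈ UH N F (RingHom.id F) := mem_UH.2 e3
  have hne := rev_ne_of_even hN
  have hπ : revC π = π := revC_of_mem_UH hν' hν
  -- the columns of `u ν`
  have huν : ∀ k, qc ((u * ν : GL (Fin N) F) : Matrix (Fin N) (Fin N) F) k
      = (ν : Matrix (Fin N) (Fin N) F) (π k) k ^ 2 * qc (u : Matrix (Fin N) (Fin N) F) (π k) := by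
    intro k
    rw [Units.val_mul, qc_mul hu' hne, qc_mono hN hν k, add_zero]
    rw [Finset.sum_eq_single (π k)]
    · intro l _ hl
      rw [hν l k hl]
      ring
    · intro h
      exact absurd (Finset.mem_univ _) h
  -- the columns of `g`
  have hgk : ∀ k, ∑ l, (w : Matrix (Fin N) (Fin N) F) l k ^ 2
      * ((ν : Matrix (Fin N) (Fin N) F) (π l) l ^ 2 * qc (u : Matrix (Fin N) (Fin N) F) (π l))
      + qc (w : Matrix (Fin N) (Fin N) F) k = 0 := by
    intro k
    have h1 := hg.2 k
    rw [e, Units.val_mul, qc_mul (mul_mem hu' hν') hne] at h1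
    simp_rw [huν] at h1
    exact h1
  have hwU := isUni_iff.1 hw.isUni
  have key : ∀ (n : ℕ) (k : Fin N), (k : ℕ) = n →
      qc (u : Matrix (Fin N) (Fin N) F) (π k) = 0 ∧ qc (w : Matrix (Fin N) (Fin N) F) k = 0 := by
    intro n
    induction n using Nat.strong_induction_on with
    | _ n ih =>
      intro k hk
      have h1 := hgk k
      rw [Finset.sum_eq_single k] at h1
      · rw [hwU.1 k, one_pow, one_mul] at h1
        have hc : (ν : Matrix (Fin N) (Fin N) F) (π k) k ^ 2 ≠ 0 :=
          pow_ne_zero _ (hν.apply_ne_zero k)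
        rcases lt_trichotomy k k.rev with h2 | h2 | h2
        · have hw0 := qc_uni_first hw.isUni k h2
          rw [hw0, add_zero] at h1
          exact ⟨(mul_eq_zero.1 h1).resolve_left hc, hw0⟩
        · exact absurd h2 (hne k)
        · rcases lt_trichotomy (π k) (π k).rev with h3 | h3 | h3
          · have hu0 := qc_uni_first hu (π k) h3
            rw [hu0, mul_zero, zero_add] at h1
            exact ⟨hu0, h1⟩
          · exact absurd h3 (hne _)
          · have hw0 := qc_sharp hπ hw k h2 h3
            rw [hw0, add_zero] at h1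
            exact ⟨(mul_eq_zero.1 h1).resolve_left hc, hw0⟩
      · intro l _ hl
        rcases lt_or_gt_of_ne hl with h4 | h4
        · rw [(ih l (by rw [← hk]; exact h4) l rfl).1]
          ring
        · rw [hwU.2 l k h4]
          ring
      · intro h
        exact absurd (Finset.mem_univ _) h
  refine ⟨u, ν, w, π, hu, hν, hw, e, ⟨hu', fun k => ?_⟩, ⟨hν', qc_mono hN hν⟩,
    ⟨hw', fun k => (key k k rfl).2⟩⟩
  have := (key (π⁻¹ k) (π⁻¹ k) rfl).1
  simpa using this

/-- an element of `OQ` in the double coset of a monomial matrix `ν₀` lies in the double coset, for the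
upper triangular elements of `OQ`, of a monomial element of `OQ` with the same permutation -/
theorem OQ.bruhat [Finite F] (hN : Even N) {g b b' ν₀ : GL (Fin N) F}
    {π : Equiv.Perm (Fin N)} (hg : g ∈ OQ N F hN) (hb : b ∈ upperTriangularGL N F)
    (hb' : b' ∈ upperTriangularGL N F) (hν₀ : IsMono (ν₀ : Matrix (Fin N) (Fin N) F) π)
    (h : g = b * ν₀ * b') :
    ∃ u ν w : GL (Fin N) F, IsUni (u : Matrix (Fin N) (Fin N) F) ∧
      IsMono (ν : Matrix (Fin N) (Fin N) F) π ∧ IsUni (w : Matrix (Fin N) (Fin N) F) ∧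
      g = u * ν * w ∧ u ∈ OQ N F hN ∧ ν ∈ OQ N F hN ∧ w ∈ OQ N F hN := by
  obtain ⟨u, ν, w, π', hu, hν, hw, e, e1, e2, e3⟩ := OQ.sharp hN hg
  have hπ : π' = π :=
    perm_eq_of_bruhat hu.upper (hw.isUni).upper hb hb' hν hν₀ (e.symm.trans h)
  subst hπ
  exact ⟨u, ν, w, hu, hν, hw.isUni, e, e1, e2, e3⟩

end Cfsg.Agent.RootBN
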