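import Cfsg.Agent.Lib.Lead.RootBN.OQSharp
import Mathlib

/-!
# `OQ N F` is the isometry group of the quadratic form `qv` (every characteristic) (lead)
-/

set_option autoImplicit false

namespace Cfsg.Agent.RootBN

open Matrix Cfsg Cfsg.Agent.Lib.Helper5.GLBN Cfsg.Agent.Lib.Helper8.SpBN
  Cfsg.Agent.Lib.Helper8.Tw
open scoped MatrixGroups

variable {N : ℕ} {F : Type*} [Field F]

/-- the polar form of `qv` -/
theorem qv_add (hN : Even N) (x y : Fin N → F) :
    qv (x + y) = qv x + qv y + ∑ i : Fin N, x i * y i.rev := by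
  have h := half_polar x y
  have e : ∑ i : Fin N, (if i = i.rev then 0 else x i * y i.rev) = ∑ i : Fin N, x i * y i.rev := by
    apply Finset.sum_congr rfl
    intro i _
    rw [if_neg (rev_ne_of_even hN i)]
  rw [← e, ← h]
  unfold qv
  rw [← Finset.sum_add_distrib, ← Finset.sum_add_distrib]
  apply Finset.sum_congr rfl
  intro i _
  simp only [Pi.add_apply]
  split_ifs <;> ring

theorem qv_single (k : Fin N) (c : F) : qv (Pi.single k c) = 0 := by
  unfold qv
  apply Finset.sum_eq_zero
  intro i _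
  split_ifs with h
  · by_cases h1 : i = k
    · have h3 : i.rev ≠ k := by
        intro h2
        rw [← h1] at h2
        exact (ne_of_lt h) h2.symm
      rw [Pi.single_eq_of_ne h3, mul_zero]
    · rw [Pi.single_eq_of_ne h1, zero_mul]
  · rfl

/-- the converse of `polar_of_mem_UH` -/
theorem mem_UH_of_polar {g : GL (Fin N) F}
    (h : ∀ l l', ∑ i, (g : Matrix (Fin N) (Fin N) F) i l * (g : Matrix (Fin N) (Fin N) F) i.rev l'
      = if l' = l.rev then 1 else 0) : g ∈ UH N F (RingHom.id F) := by
  rw [mem_UH_iff_mul]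
  have e : ((g : Matrix (Fin N) (Fin N) F).map (RingHom.id F)) = (g : Matrix (Fin N) (Fin N) F) := by
    ext i j
    rfl
  rw [e]
  ext l l'
  rw [Matrix.mul_apply, RG_apply]
  have h2 : ∀ j, ((g : Matrix (Fin N) (Fin N) F)ᵀ
      * ((RG N F : GL (Fin N) F) : Matrix (Fin N) (Fin N) F)) l j
      = (g : Matrix (Fin N) (Fin N) F) j.rev l := by
    intro j
    rw [Matrix.mul_apply, Finset.sum_eq_single j.rev]
    · rw [Matrix.transpose_apply, RG_apply, if_pos rfl, mul_one]
    · intro b _ hb
      rw [RG_apply, if_neg hb, mul_zero]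
    · intro h
      exact absurd (Finset.mem_univ _) h
  simp_rw [h2]
  have h3 : ∑ j, (g : Matrix (Fin N) (Fin N) F) j.rev l * (g : Matrix (Fin N) (Fin N) F) j l'
      = ∑ i, (g : Matrix (Fin N) (Fin N) F) i l * (g : Matrix (Fin N) (Fin N) F) i.rev l' := by
    rw [← Equiv.sum_comp Fin.revPerm
      (fun i => (g : Matrix (Fin N) (Fin N) F) i l * (g : Matrix (Fin N) (Fin N) F) i.rev l')]
    apply Finset.sum_congr rfl
    intro j _
    rw [Fin.revPerm_apply, Fin.rev_rev]
  rw [h3, h l l']
  by_cases hl : l = l'.rev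
  · rw [if_pos hl, if_pos (by rw [hl, Fin.rev_rev])]
  · rw [if_neg hl, if_neg]
    intro h
    apply hl
    rw [h, Fin.rev_rev]

/-- `OQ` is the isometry group of `qv` -/
theorem mem_OQ_iff_qv (hN : Even N) {g : GL (Fin N) F} :
    g ∈ OQ N F hN ↔ ∀ y : Fin N → F, qv ((g : Matrix (Fin N) (Fin N) F) *ᵥ y) = qv y := by
  constructor
  · rintro ⟨h1, h2⟩ y
    rw [qv_mulVec h1 (rev_ne_of_even hN), add_eq_right]
    apply Finset.sum_eq_zero
    intro l _
    rw [h2 l, mul_zero]
  · intro h
    have hcol : ∀ k, (fun i => (g : Matrix (Fin N) (Fin N) F) i k)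
        = (g : Matrix (Fin N) (Fin N) F) *ᵥ Pi.single k 1 := by
      intro k
      rw [Matrix.mulVec_single_one]
      rfl
    have hq : ∀ k, qc (g : Matrix (Fin N) (Fin N) F) k = 0 := by
      intro k
      unfold qc
      rw [hcol, h, qv_single]
    refine ⟨mem_UH_of_polar ?_, hq⟩
    intro l l'
    have h1 := h (Pi.single l 1 + Pi.single l' 1)
    rw [Matrix.mulVec_add, qv_add hN, qv_add hN, h, h, qv_single, qv_single] at h1
    rw [← hcol, ← hcol] at h1
    simp only [zero_add] at h1
    rw [h1, Finset.sum_eq_single l]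
    · rw [Pi.single_eq_same, one_mul]
      by_cases hl : l' = l.rev
      · rw [if_pos hl, hl, Pi.single_eq_same]
      · rw [if_neg hl, Pi.single_eq_of_ne]
        exact fun h => hl h.symm
    · intro b _ hb
      rw [Pi.single_eq_of_ne hb, zero_mul]
    · intro h
      exact absurd (Finset.mem_univ _) h

end Cfsg.Agent.RootBN
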