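import Cfsg.Agent.Lib.Lead.RootBN.PSemi
import Mathlib

/-!
# From the model to the statements: automorphisms of `PΩ⁺_{2m}(F)` induced by semisimilarities (lead)

`OmM m F` : the commutator subgroup of `OQ (2 m) F` (the model of `Ω⁺_{2m}(F)`), `eOmP` : its
identification with `Omega F (quadFormPlus m F)`, `fOmP` : the projection onto `POmega`;
`facD_of_model` : if every automorphism of `PΩ` has, on the model, the form `g ↦ A ψ(g) A⁻¹` with `A` a
similitude of `qv`, then every automorphism of `PΩ⁺_{2m}(F)` is induced by a semisimilarity.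
-/

set_option autoImplicit false

namespace Cfsg.Agent.RootBN

open Matrix Cfsg Cfsg.Agent.Lib.Helper5.GLBN Cfsg.Agent.Lib.Helper8.SpBN
  Cfsg.Agent.Lib.Helper8.Tw Cfsg.Agent.Lib.Helper8.AutSp
open scoped MatrixGroups

variable {m : ℕ} {F : Type*} [Field F]

/-- the reindexing commutes with the field automorphisms -/
theorem pPhi_map (ψ : F ≃+* F) (g : GL (Fin m ⊕ Fin m) F) :
    pPhi m (Matrix.GeneralLinearGroup.map (ψ : F →+* F) g)
      = Matrix.GeneralLinearGroup.map (ψ : F →+* F) (pPhi m g) := by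
  apply Units.ext
  ext a b
  rfl

/-- the model of `Ω⁺_{2m}(F)` -/
abbrev OmM (m : ℕ) (F : Type*) [Field F] : Subgroup ↥(OQ (2 * m) F (even_two_mul m)) :=
  commutator ↥(OQ (2 * m) F (even_two_mul m))

/-- the identification of `Ω` with its model -/
noncomputable def eOmP (m : ℕ) (F : Type*) [Field F] :
    ↥(Omega F (quadFormPlus m F)) ≃* ↥(OmM m F) :=
  commutatorEquiv (pIso m)

theorem eOmP_coe (s : ↥(Omega F (quadFormPlus m F))) :
    (((eOmP m F s : ↥(OmM m F)) : ↥(OQ (2 * m) F (even_two_mul m))) : GL (Fin (2 * m)) F)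
      = pPhi m ((s : ↥(isometryGroup F (quadFormPlus m F))) : GL (Fin m ⊕ Fin m) F) := rfl

/-- the projection of the model onto `PΩ` -/
noncomputable def fOmP (m : ℕ) (F : Type*) [Field F] :
    ↥(OmM m F) →* POmega F (quadFormPlus m F) :=
  (QuotientGroup.mk' (Subgroup.center ↥(Omega F (quadFormPlus m F)))).comp
    (eOmP m F).symm.toMonoidHom

theorem fOmP_apply (g : ↥(OmM m F)) : fOmP m F g = QuotientGroup.mk ((eOmP m F).symm g) := rfl

theorem fOmP_surjective : Function.Surjective (fOmP m F) := by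
  intro x
  obtain ⟨s, rfl⟩ := QuotientGroup.mk'_surjective _ x
  exact ⟨eOmP m F s, by rw [fOmP_apply, MulEquiv.symm_apply_apply]; rfl⟩

theorem fOmP_ker : (fOmP m F).ker = Subgroup.center ↥(OmM m F) := by
  ext g
  rw [MonoidHom.mem_ker, fOmP_apply, QuotientGroup.eq_one_iff, ← map_center_eq (eOmP m F).symm]
  constructor
  · rintro ⟨g', hg', e⟩
    have : g' = g := (eOmP m F).symm.injective e
    rw [← this]
    exact hg'
  · intro hg
    exact ⟨g, hg, rfl⟩

/-- **from the model to the statements** -/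
theorem facD_of_model
    (H : ∀ θ : POmega F (quadFormPlus m F) ≃* POmega F (quadFormPlus m F),
      ∃ (A : GL (Fin (2 * m)) F) (ψ : F ≃+* F) (μ : Fˣ),
        (∀ y : Fin (2 * m) → F,
          qv ((A : Matrix (Fin (2 * m)) (Fin (2 * m)) F) *ᵥ y) = (μ : F) * qv y) ∧
        ∀ g : ↥(OmM m F), ∃ g' : ↥(OmM m F),
          ((g' : ↥(OQ (2 * m) F (even_two_mul m))) : GL (Fin (2 * m)) F)
            = A * Matrix.GeneralLinearGroup.map (ψ : F →+* F)
                ((g : ↥(OQ (2 * m) F (even_two_mul m))) : GL (Fin (2 * m)) F) * A⁻¹ ∧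
          θ (fOmP m F g) = fOmP m F g')
    (β : MulAut (POmega F (quadFormPlus m F))) :
    ∃ (g : GL (Fin m ⊕ Fin m) F) (σ : F ≃+* F),
      IsSemisimilarityPair (quadFormPlus m F) g σ ∧
      IsInducedBySemilinearPOmega (quadFormPlus m F) g σ β := by
  obtain ⟨A, ψ, μ, hA, Hg⟩ := H β
  refine ⟨(pPhi m).symm A, ψ, semisim_of_model A μ hA ψ, ?_⟩
  intro s s' hs
  obtain ⟨g', hg', hβ⟩ := Hg (eOmP m F s)
  have e1 : fOmP m F (eOmP m F s) = QuotientGroup.mk s := by
    rw [fOmP_apply, MulEquiv.symm_apply_apply]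
  rw [← e1, hβ, fOmP_apply]
  congr 1
  apply (eOmP m F).injective
  rw [MulEquiv.apply_symm_apply]
  apply Subtype.ext
  apply Subtype.ext
  rw [eOmP_coe, hg', eOmP_coe]
  have hs' : (((s' : ↥(isometryGroup F (quadFormPlus m F))) : GL (Fin m ⊕ Fin m) F))
      = (pPhi m).symm A
        * Matrix.GeneralLinearGroup.map (ψ : F →+* F)
          ((s : ↥(isometryGroup F (quadFormPlus m F))) : GL (Fin m ⊕ Fin m) F)
        * ((pPhi m).symm A)⁻¹ := by
    apply Units.ext
    rw [hs]
    rfl
  rw [hs', map_mul, map_mul, map_inv, MulEquiv.apply_symm_apply, pPhi_map]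

end Cfsg.Agent.RootBN
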