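import Cfsg.Agent.Lib.Lead.RootBN.OQDef
import Mathlib

set_option autoImplicit false

namespace Cfsg.Agent.RootBN

open Matrix Cfsg Cfsg.Agent.Lib.Helper5.GLBN Cfsg.Agent.Lib.Helper8.SpBN
  Cfsg.Agent.Lib.Helper8.Tw
open scoped MatrixGroups

variable {N : ℕ} {F : Type*} [Field F]

/-- the cocycle formula: the quadratic form on the image of a vector under an element preserving the
polar form -/
theorem qv_mulVec {g : GL (Fin N) F} (hg : g ∈ UH N F (RingHom.id F))
    (hN : ∀ i : Fin N, i ≠ i.rev) (a : Fin N → F) :
    qv ((g : Matrix (Fin N) (Fin N) F) *ᵥ a)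
      = ∑ l, a l ^ 2 * qc (g : Matrix (Fin N) (Fin N) F) l + qv a := by
  set M : Matrix (Fin N) (Fin N) F := (g : Matrix (Fin N) (Fin N) F) with hM
  -- the coefficients
  set A : Fin N → Fin N → F := fun l l' => ∑ i : Fin N, if i < i.rev then M i l * M i.rev l' else 0
    with hA
  have h1 : qv (M *ᵥ a) = ∑ l, ∑ l', a l * a l' * A l l' := by
    unfold qv
    have : ∀ i : Fin N, (if i < i.rev then (M *ᵥ a) i * (M *ᵥ a) i.rev else 0)
        = ∑ l, ∑ l', a l * a l' * (if i < i.rev then M i l * M i.rev l' else 0) := by
      intro i
      split_ifs with h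
      · rw [Matrix.mulVec, Matrix.mulVec, dotProduct, dotProduct, Finset.sum_mul_sum]
        apply Finset.sum_congr rfl
        intro l _
        apply Finset.sum_congr rfl
        intro l' _
        ring
      · simp
    simp_rw [this]
    rw [Finset.sum_comm]
    apply Finset.sum_congr rfl
    intro l _
    rw [Finset.sum_comm]
    apply Finset.sum_congr rfl
    intro l' _
    rw [hA, Finset.mul_sum]
  have h2 : ∀ l l', A l l' + A l' l = if l' = l.rev then 1 else 0 := by
    intro l l'
    rw [← polar_of_mem_UH hg l l', hA]
    beta_reduce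
    rw [← Finset.sum_add_distrib]
    have := half_polar (fun i => M i l) (fun i => M i l')
    beta_reduce at this
    have e : ∀ i : Fin N, ((if i < i.rev then M i l * M i.rev l' else 0)
        + if i < i.rev then M i l' * M i.rev l else 0)
        = if i < i.rev then M i l * M i.rev l' + M i l' * M i.rev l else 0 := by
      intro i
      split_ifs <;> ring
    simp_rw [e]
    rw [this]
    apply Finset.sum_congr rfl
    intro i _
    rw [if_neg (hN i)]
  rw [h1, sum_sum_split]
  congr 1
  · apply Finset.sum_congr rfl
    intro l _
    rw [hA]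
    unfold qc qv
    ring
  · unfold qv
    apply Finset.sum_congr rfl
    intro l _
    have h3 : ∀ l', (if l < l' then a l * a l' * A l l' + a l' * a l * A l' l else 0)
        = if l' = l.rev then (if l < l.rev then a l * a l.rev else 0) else 0 := by
      intro l'
      by_cases hl : l' = l.rev
      · subst hl
        rw [if_pos rfl]
        split_ifs with h
        · have := h2 l l.rev
          rw [if_pos rfl] at this
          calc a l * a l.rev * A l l.rev + a l.rev * a l * A l.rev l
              = a l * a l.rev * (A l l.rev + A l.rev l) := by ring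
            _ = a l * a l.rev := by rw [this, mul_one]
        · rfl
      · rw [if_neg hl]
        split_ifs with h
        · have := h2 l l'
          rw [if_neg hl] at this
          calc a l * a l' * A l l' + a l' * a l * A l' l
              = a l * a l' * (A l l' + A l' l) := by ring
            _ = 0 := by rw [this, mul_zero]
        · rfl
    simp_rw [h3]
    rw [Finset.sum_ite_eq' Finset.univ l.rev]
    simp

/-- the cocycle formula for columns -/
theorem qc_mul {g : GL (Fin N) F} (hg : g ∈ UH N F (RingHom.id F))
    (hN : ∀ i : Fin N, i ≠ i.rev) (M : Matrix (Fin N) (Fin N) F) (k : Fin N) :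
    qc ((g : Matrix (Fin N) (Fin N) F) * M) k
      = ∑ l, M l k ^ 2 * qc (g : Matrix (Fin N) (Fin N) F) l + qc M k := by
  have h := qv_mulVec hg hN (fun i => M i k)
  have e : (fun i => ((g : Matrix (Fin N) (Fin N) F) * M) i k)
      = (g : Matrix (Fin N) (Fin N) F) *ᵥ (fun i => M i k) := by
    funext i
    rw [Matrix.mul_apply, Matrix.mulVec, dotProduct]
  show qv (fun i => ((g : Matrix (Fin N) (Fin N) F) * M) i k) = _
  rw [e, h]
  rfl

end Cfsg.Agent.RootBN
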