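import Cfsg.Agent.Lib.Helper8.Tw.UTwist
import Mathlib

/-!
# The quadratic form `Σ_{i < i.rev} y_i y_{i.rev}` and the orthogonal group `OQ` in every characteristic
(lead)

`qv y` : the quadratic form; `qc M k` : its value on the column `k` of `M`; the cocycle formula
`qc (g * M) k = Σ_l (M l k)² * qc g l + qc M k` for `g` preserving the polar form (`g ∈ UH N F id`);
`OQ N F` : the elements of `UH N F id` with singular columns (the full orthogonal group of the
quadratic form; in characteristic `≠ 2` it is all of `UH N F id` when `N` is even).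
-/

set_option autoImplicit false

namespace Cfsg.Agent.RootBN

open Matrix Cfsg Cfsg.Agent.Lib.Helper5.GLBN Cfsg.Agent.Lib.Helper8.SpBN
  Cfsg.Agent.Lib.Helper8.Tw
open scoped MatrixGroups

variable {N : ℕ} {F : Type*} [Field F]

/-- the quadratic form `Σ_{i < i.rev} y_i y_{i.rev}` -/
def qv (y : Fin N → F) : F := ∑ i : Fin N, if i < i.rev then y i * y i.rev else 0

/-- the quadratic form on the column `k` -/
def qc (M : Matrix (Fin N) (Fin N) F) (k : Fin N) : F := qv (fun i => M i k)

/-- splitting a double sum over a linear order -/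
theorem sum_sum_split {α : Type*} [Fintype α] [LinearOrder α] (f : α → α → F) :
    ∑ l, ∑ l', f l l' = ∑ l, f l l + ∑ l, ∑ l', if l < l' then f l l' + f l' l else 0 := by
  have h1 : ∀ l, ∑ l', f l l'
      = f l l + ∑ l', (if l < l' then f l l' else 0) + ∑ l', (if l' < l then f l l' else 0) := by
    intro l
    have e : f l l = ∑ l', (if l' = l then f l l' else 0) := by
      rw [Finset.sum_ite_eq' Finset.univ l (fun l' => f l l')]
      simp
    rw [e, ← Finset.sum_add_distrib, ← Finset.sum_add_distrib]
    apply Finset.sum_congr rfl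
    intro l' _
    rcases lt_trichotomy l l' with h | h | h
    · rw [if_neg (ne_of_gt h), if_pos h, if_neg (not_lt_of_gt h)]
      ring
    · subst h
      simp
    · rw [if_neg (ne_of_lt h), if_neg (not_lt_of_gt h), if_pos h]
      ring
  simp_rw [h1]
  rw [Finset.sum_add_distrib, Finset.sum_add_distrib, add_assoc]
  congr 1
  have h2 : ∑ l, ∑ l', (if l' < l then f l l' else 0)
      = ∑ l, ∑ l', (if l < l' then f l' l else 0) := Finset.sum_comm
  rw [h2, ← Finset.sum_add_distrib]
  apply Finset.sum_congr rfl
  intro l _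
  rw [← Finset.sum_add_distrib]
  apply Finset.sum_congr rfl
  intro l' _
  split_ifs <;> ring

/-- the polar form is preserved by `UH N F id` -/
theorem polar_of_mem_UH {g : GL (Fin N) F} (hg : g ∈ UH N F (RingHom.id F)) (l l' : Fin N) :
    ∑ i, (g : Matrix (Fin N) (Fin N) F) i l * (g : Matrix (Fin N) (Fin N) F) i.rev l'
      = if l' = l.rev then 1 else 0 := by
  have h := mem_UH_iff_mul.1 hg
  have h1 := congrFun (congrFun h l) l'
  rw [RG_apply] at h1
  have e : ((g : Matrix (Fin N) (Fin N) F).map (RingHom.id F)) = (g : Matrix (Fin N) (Fin N) F) := by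
    ext i j
    rfl
  rw [e, Matrix.mul_apply] at h1
  have h2 : ∀ j, ((g : Matrix (Fin N) (Fin N) F)ᵀ
      * ((RG N F : GL (Fin N) F) : Matrix (Fin N) (Fin N) F)) l j
      = (g : Matrix (Fin N) (Fin N) F) j.rev l := by
    intro j
    rw [Matrix.mul_apply, Finset.sum_eq_single j.rev]
    · rw [Matrix.transpose_apply, RG_apply, if_pos rfl, mul_one]
    · intro b _ hb
      rw [RG_apply, if_neg hb, mul_zero]
    · intro h
      exact absurd (Finset.mem_univ _) h
  simp_rw [h2] at h1
  have h3 : ∑ i, (g : Matrix (Fin N) (Fin N) F) i l * (g : Matrix (Fin N) (Fin N) F) i.rev l'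
      = ∑ j, (g : Matrix (Fin N) (Fin N) F) j.rev l * (g : Matrix (Fin N) (Fin N) F) j l' := by
    rw [← Equiv.sum_comp Fin.revPerm]
    apply Finset.sum_congr rfl
    intro j _
    rw [Fin.revPerm_apply, Fin.rev_rev]
  rw [h3, h1]
  by_cases hl : l = l'.rev
  · rw [if_pos hl, if_pos (by rw [hl, Fin.rev_rev])]
  · rw [if_neg hl, if_neg]
    intro h
    apply hl
    rw [h, Fin.rev_rev]

/-- the ordered half of the polar form -/
theorem half_polar (x y : Fin N → F) :
    ∑ i : Fin N, (if i < i.rev then x i * y i.rev + y i * x i.rev else 0)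
      = ∑ i : Fin N, (if i = i.rev then 0 else x i * y i.rev) := by
  have h1 : ∑ i : Fin N, (if i < i.rev then x i * y i.rev + y i * x i.rev else 0)
      = ∑ i : Fin N, (if i < i.rev then x i * y i.rev else 0)
        + ∑ i : Fin N, (if i < i.rev then y i * x i.rev else 0) := by
    rw [← Finset.sum_add_distrib]
    apply Finset.sum_congr rfl
    intro i _
    split_ifs <;> ring
  have h2 : ∑ i : Fin N, (if i < i.rev then y i * x i.rev else 0)
      = ∑ i : Fin N, (if i.rev < i then x i * y i.rev else 0) := by
    rw [← Equiv.sum_comp Fin.revPerm]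
    apply Finset.sum_congr rfl
    intro i _
    rw [Fin.revPerm_apply, Fin.rev_rev]
    split_ifs <;> ring
  rw [h1, h2, ← Finset.sum_add_distrib]
  apply Finset.sum_congr rfl
  intro i _
  rcases lt_trichotomy i i.rev with h | h | h
  · rw [if_pos h, if_neg (not_lt_of_gt h), if_neg (ne_of_lt h), add_zero]
  · rw [if_neg (by rw [← h]; exact lt_irrefl _), if_neg (by rw [← h]; exact lt_irrefl _), if_pos h,
      add_zero]
  · rw [if_neg (not_lt_of_gt h), if_pos h, if_neg (ne_of_gt h), zero_add]

end Cfsg.Agent.RootBN
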