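import Cfsg.Agent.Lib.Lead.RootBN.OQIso
import Cfsg.Agent.Lib.Helper8.Tw.OMain
import Cfsg.Prelude.Def_LieTypeDatum
import Mathlib

/-!
# The isometry group of `Σ xᵢ yᵢ` is `OQ (2 m) F`, in every characteristic (lead)

`pPhi m : GL (Fin m ⊕ Fin m) F ≃* GL (Fin (2 m)) F` (reindexing), `pPhi_mem_iff`, `pIso m`.
-/

set_option autoImplicit false

namespace Cfsg.Agent.RootBN

open Matrix Cfsg Cfsg.Agent.Lib.Helper5.GLBN Cfsg.Agent.Lib.Helper8.SpBN
  Cfsg.Agent.Lib.Helper8.Tw
open scoped MatrixGroups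

variable {m : ℕ} {F : Type*} [Field F]

/-- the index map -/
def pIdx (m : ℕ) : Fin m ⊕ Fin m → Fin (2 * m)
  | .inl i => ⟨i, by omega⟩
  | .inr i => ⟨2 * m - 1 - i, by omega⟩

theorem pIdx_bijective : Function.Bijective (pIdx m) := by
  rw [Fintype.bijective_iff_injective_and_card]
  constructor
  · rintro (i | i) (j | j) h <;> simp only [pIdx, Fin.mk.injEq] at h
    · rw [Fin.ext h]
    · have := i.2; have := j.2; omega
    · have := i.2; have := j.2; omega
    · have := i.2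
      have := j.2
      have : (i : ℕ) = j := by omega
      rw [Fin.ext this]
  · simp only [Fintype.card_sum, Fintype.card_fin]
    omega

/-- the index equivalence -/
noncomputable def pEquiv (m : ℕ) : Fin m ⊕ Fin m ≃ Fin (2 * m) :=
  Equiv.ofBijective _ pIdx_bijective

theorem pEquiv_apply (x : Fin m ⊕ Fin m) : pEquiv m x = pIdx m x := rfl

theorem pIdx_rev_inl (i : Fin m) : (pIdx m (.inl i)).rev = pIdx m (.inr i) := by
  apply Fin.ext
  rw [Fin.val_rev]
  simp only [pIdx]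
  have := i.2
  omega

theorem pIdx_rev_inr (i : Fin m) : (pIdx m (.inr i)).rev = pIdx m (.inl i) := by
  rw [← pIdx_rev_inl, Fin.rev_rev]

theorem pIdx_inl_lt (i : Fin m) : pIdx m (.inl i) < (pIdx m (.inl i)).rev := by
  rw [pIdx_rev_inl, Fin.lt_def]
  simp only [pIdx]
  have := i.2
  omega

theorem pIdx_inr_not_lt (i : Fin m) : ¬ pIdx m (.inr i) < (pIdx m (.inr i)).rev := by
  rw [pIdx_rev_inr, Fin.lt_def, not_lt]
  simp only [pIdx]
  have := i.2
  omega

theorem even_two_mul (m : ℕ) : Even (2 * m) := ⟨m, by ring⟩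

/-- the quadratic form of the statements is `qv` after reindexing -/
theorem quadFormPlus_eq (v : Fin m ⊕ Fin m → F) :
    quadFormPlus m F v = qv (fun a => v ((pEquiv m).symm a)) := by
  unfold qv quadFormPlus
  rw [← Equiv.sum_comp (pEquiv m)
    (fun a => if a < a.rev then v ((pEquiv m).symm a) * v ((pEquiv m).symm a.rev) else 0)]
  rw [Fintype.sum_sum_type]
  have h1 : ∀ i : Fin m, (if pEquiv m (.inl i) < (pEquiv m (.inl i)).rev
      then v ((pEquiv m).symm (pEquiv m (.inl i))) * v ((pEquiv m).symm (pEquiv m (.inl i)).rev)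
      else 0) = v (.inl i) * v (.inr i) := by
    intro i
    rw [pEquiv_apply, if_pos (pIdx_inl_lt i), pIdx_rev_inl, ← pEquiv_apply, ← pEquiv_apply,
      Equiv.symm_apply_apply, Equiv.symm_apply_apply]
  have h2 : ∀ i : Fin m, (if pEquiv m (.inr i) < (pEquiv m (.inr i)).rev
      then v ((pEquiv m).symm (pEquiv m (.inr i))) * v ((pEquiv m).symm (pEquiv m (.inr i)).rev)
      else 0) = 0 := by
    intro i
    rw [pEquiv_apply, if_neg (pIdx_inr_not_lt i)]
  simp_rw [h1, h2]
  rw [Finset.sum_const_zero, add_zero]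

/-- the reindexing of the general linear groups -/
noncomputable def pPhi (m : ℕ) : GL (Fin m ⊕ Fin m) F ≃* GL (Fin (2 * m)) F :=
  Units.mapEquiv (Matrix.reindexAlgEquiv F F (pEquiv m)).toRingEquiv.toMulEquiv

theorem pPhi_coe (g : GL (Fin m ⊕ Fin m) F) :
    ((pPhi m g : GL (Fin (2 * m)) F) : Matrix (Fin (2 * m)) (Fin (2 * m)) F)
      = (g : Matrix (Fin m ⊕ Fin m) (Fin m ⊕ Fin m) F).submatrix (pEquiv m).symm (pEquiv m).symm :=
  rfl

theorem pPhi_mulVec (g : GL (Fin m ⊕ Fin m) F) (y : Fin (2 * m) → F) :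
    (fun x => (((pPhi m g : GL (Fin (2 * m)) F) : Matrix (Fin (2 * m)) (Fin (2 * m)) F) *ᵥ y)
        (pEquiv m x))
      = (g : Matrix (Fin m ⊕ Fin m) (Fin m ⊕ Fin m) F) *ᵥ (fun x => y (pEquiv m x)) := by
  rw [pPhi_coe, Matrix.submatrix_mulVec_equiv]
  funext x
  simp only [Function.comp_apply, Equiv.symm_symm, Equiv.symm_apply_apply]
  rfl

theorem mem_isometryGroup_iffP {ι : Type} [Fintype ι] [DecidableEq ι] (Q : (ι → F) → F)
    (g : GL ι F) : g ∈ isometryGroup F Q ↔ ∀ u, Q ((g : Matrix ι ι F) *ᵥ u) = Q u :=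
  ⟨fun h u => h u u, fun h u _ => h u⟩

/-- the isometry group of the statements is `OQ` after reindexing -/
theorem pPhi_mem_iff (g : GL (Fin m ⊕ Fin m) F) :
    g ∈ isometryGroup F (quadFormPlus m F) ↔ pPhi m g ∈ OQ (2 * m) F (even_two_mul m) := by
  rw [mem_isometryGroup_iffP, mem_OQ_iff_qv]
  have key : ∀ y : Fin (2 * m) → F,
      qv (((pPhi m g : GL (Fin (2 * m)) F) : Matrix (Fin (2 * m)) (Fin (2 * m)) F) *ᵥ y)
        = quadFormPlus m F ((g : Matrix (Fin m ⊕ Fin m) (Fin m ⊕ Fin m) F)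
            *ᵥ (fun x => y (pEquiv m x))) := by
    intro y
    rw [quadFormPlus_eq, ← pPhi_mulVec]
    congr 1
    funext a
    show _ = (((pPhi m g : GL (Fin (2 * m)) F) : Matrix (Fin (2 * m)) (Fin (2 * m)) F) *ᵥ y)
      (pEquiv m ((pEquiv m).symm a))
    rw [Equiv.apply_symm_apply]
  have key2 : ∀ y : Fin (2 * m) → F, qv y = quadFormPlus m F (fun x => y (pEquiv m x)) := by
    intro y
    rw [quadFormPlus_eq]
    congr 1
    funext a
    rw [Equiv.apply_symm_apply]
  constructor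
  · intro h y
    rw [key, h, ← key2]
  · intro h u
    have := h (fun a => u ((pEquiv m).symm a))
    rw [key, key2] at this
    simpa using this

theorem map_isometryGroup_pPhi (m : ℕ) :
    (isometryGroup F (quadFormPlus m F)).map
      ((pPhi m : GL (Fin m ⊕ Fin m) F ≃* GL (Fin (2 * m)) F) :
        GL (Fin m ⊕ Fin m) F →* GL (Fin (2 * m)) F) = OQ (2 * m) F (even_two_mul m) := by
  ext x
  rw [Subgroup.mem_map]
  constructor
  · rintro ⟨g, hg, rfl⟩
    exact (pPhi_mem_iff g).1 hg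
  · intro hx
    refine ⟨(pPhi m).symm x, (pPhi_mem_iff _).2 ?_, (pPhi m).apply_symm_apply x⟩
    rw [MulEquiv.apply_symm_apply]
    exact hx

/-- the isometry group of `Σ xᵢ yᵢ` is `OQ (2 m) F` -/
noncomputable def pIso (m : ℕ) :
    ↥(isometryGroup F (quadFormPlus m F)) ≃* ↥(OQ (2 * m) F (even_two_mul m)) :=
  ((pPhi m).subgroupMap (isometryGroup F (quadFormPlus m F))).trans
    (MulEquiv.subgroupCongr (map_isometryGroup_pPhi m))

theorem pIso_coe (g : ↥(isometryGroup F (quadFormPlus m F))) :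
    ((pIso m g : ↥(OQ (2 * m) F (even_two_mul m))) : GL (Fin (2 * m)) F) = pPhi m g.1 := rfl

end Cfsg.Agent.RootBN
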