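import Cfsg.Agent.Lib.Lead.RootBN.PIso
import Cfsg.Agent.Lib.Lead.AutPO.DPhi
import Mathlib

/-!
# Semisimilarities of `Σ xᵢ yᵢ` in the antidiagonal model (lead)
-/

set_option autoImplicit false

namespace Cfsg.Agent.RootBN

open Matrix Cfsg Cfsg.Agent.Lib.Helper5.GLBN Cfsg.Agent.Lib.Helper8.SpBN
  Cfsg.Agent.Lib.Helper8.Tw Cfsg.Agent.Lib.Helper8.AutSp
open scoped MatrixGroups

variable {N m : ℕ} {F : Type*} [Field F]

/-- a diagonal similitude multiplies `qv` by its multiplier -/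
theorem qv_dgU (d : Fin N → Fˣ) (μ : Fˣ) (hd : ∀ i, (d i : F) * (d i.rev : F) = μ)
    (y : Fin N → F) :
    qv (((dgU d : GL (Fin N) F) : Matrix (Fin N) (Fin N) F) *ᵥ y) = (μ : F) * qv y := by
  unfold qv
  rw [Finset.mul_sum]
  apply Finset.sum_congr rfl
  intro i _
  rw [dgU_mulVec, dgU_mulVec]
  split_ifs
  · rw [← hd i]
    ring
  · rw [mul_zero]

/-- field automorphisms commute with `qv` -/
theorem qv_map (ψ : F ≃+* F) (y : Fin N → F) : qv (fun i => ψ (y i)) = ψ (qv y) := by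
  unfold qv
  rw [map_sum]
  apply Finset.sum_congr rfl
  intro i _
  split_ifs
  · rw [map_mul]
  · rw [map_zero]

/-- a similitude of `qv` in the model gives a semisimilarity of the quadratic form of the statements -/
theorem semisim_of_model (A : GL (Fin (2 * m)) F) (μ : Fˣ)
    (hA : ∀ y : Fin (2 * m) → F,
      qv ((A : Matrix (Fin (2 * m)) (Fin (2 * m)) F) *ᵥ y) = (μ : F) * qv y)
    (ψ : F ≃+* F) : IsSemisimilarityPair (quadFormPlus m F) ((pPhi m).symm A) ψ := by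
  refine ⟨μ, fun v => ?_⟩
  rw [quadFormPlus_eq, quadFormPlus_eq]
  have h1 := pPhi_mulVec ((pPhi m).symm A) (fun a => ψ (v ((pEquiv m).symm a)))
  rw [MulEquiv.apply_symm_apply] at h1
  have h2 : (fun x => (fun a => ψ (v ((pEquiv m).symm a))) (pEquiv m x)) = fun i => ψ (v i) := by
    funext x
    simp only [Equiv.symm_apply_apply]
  rw [h2] at h1
  rw [← h1]
  have h3 : (fun a => (fun x => ((A : Matrix (Fin (2 * m)) (Fin (2 * m)) F)
      *ᵥ fun a => ψ (v ((pEquiv m).symm a))) (pEquiv m x)) ((pEquiv m).symm a))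
      = (A : Matrix (Fin (2 * m)) (Fin (2 * m)) F) *ᵥ fun a => ψ (v ((pEquiv m).symm a)) := by
    funext a
    simp only [Equiv.apply_symm_apply]
  rw [h3, hA, qv_map ψ (fun a => v ((pEquiv m).symm a))]

/-- elements of `OQ` are similitudes of multiplier one -/
theorem qv_of_mem_OQ (hN : Even N) {g : GL (Fin N) F} (hg : g ∈ OQ N F hN) (y : Fin N → F) :
    qv ((g : Matrix (Fin N) (Fin N) F) *ᵥ y) = qv y := (mem_OQ_iff_qv hN).1 hg y

/-- products of similitudes -/
theorem qv_mul_sim {A B : GL (Fin N) F} {μ ν : Fˣ}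
    (hA : ∀ y : Fin N → F, qv ((A : Matrix (Fin N) (Fin N) F) *ᵥ y) = (μ : F) * qv y)
    (hB : ∀ y : Fin N → F, qv ((B : Matrix (Fin N) (Fin N) F) *ᵥ y) = (ν : F) * qv y)
    (y : Fin N → F) :
    qv (((A * B : GL (Fin N) F) : Matrix (Fin N) (Fin N) F) *ᵥ y) = ((μ * ν : Fˣ) : F) * qv y := by
  rw [Units.val_mul, ← Matrix.mulVec_mulVec, hA, hB, Units.val_mul, mul_assoc]

end Cfsg.Agent.RootBN
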